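import Cfsg.Agent.Known.SUThreeUnip.Small

/-! # A criterion for generation of a three-dimensional special unitary group -/

set_option autoImplicit false
set_option linter.style.haveILetI false

namespace Cfsg.Lib.SUThreeUnip

open Cfsg.Lib.Classical Cfsg.Lib.Classical.HermSpace

universe u v

variable {F : Type u} [Field F] [Finite F] {V : Type v} [AddCommGroup V] [Module F V] [FiniteDimensional F V]

namespace Data

variable {H : HermSpace F V} (D : Data H 0) {K : Subgroup H.SIsom}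

theorem X0_scale {k : H.SIsom} (hk : k ∈ K) {lam nu c : F} (k0 : k.1.1 (D.P.e 0) = lam • D.P.e 0)
    (kd : k.1.1 D.P.d = nu • D.P.d + c • D.P.e 0) {x : F} (hx : x ∈ D.X0 K) : H.σ lam * nu * x ∈ D.X0 K := by
  obtain ⟨a, hx⟩ := hx
  have hA := hx.conj hk k0 (w' := x • (nu • D.P.d + c • D.P.e 0)) (by rw [map_smul, kd])
  have hB := SG.smul_iff_vec _ (by simp [H.smul_left, H.add_left, D.P.hde, D.P.hee]) (D.P.hee 0 0) hA
  have hC : SG K (D.P.e 0) ((H.σ lam * nu * x) • D.P.d + (H.σ lam * x * c) • D.P.e 0)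
      (lam * H.σ lam * a) := hB.congr rfl (by module) rfl
  exact ⟨_, hC.shift _⟩

/-- A Borel element whose action on the short root group generates the field gives everything. -/
theorem eq_top_of_borel (hq : 3 ≤ H.q) (hU : D.U ∈ K) {g : H.SIsom} (hg : g ∈ K)
    (hge : H.h (g.1.1 (D.P.e 0)) (D.P.e 0) ≠ 0) {k : H.SIsom} (hk : k ∈ K) {lam nu c : F}
    (k0 : k.1.1 (D.P.e 0) = lam • D.P.e 0) (kd : k.1.1 D.P.d = nu • D.P.d + c • D.P.e 0)
    (hgen : ∀ S : Subfield F, H.σ lam * nu ∈ S → S = ⊤) : K = ⊤ := by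
  have h1 : (1 : F) ∈ D.X0 K := XX.of_eq (XX.neg ⟨_, D.U_SG hU⟩) (by rw [neg_neg, one_smul])
  have hX : ∀ x, x ∈ D.X0 K := by
    intro x
    rw [addSubgroup_eq_top (hgen _ fun y hy => D.X0_scale hk k0 kd hy) h1]
    trivial
  have hC : D.P.e 0 ∈ H.uCentres K := centre_of_SG (D.P.hee 0 0) fun u hu => by
    obtain ⟨a, ha⟩ := hX (-D.th * u)
    obtain ⟨a', g1, g2, g3, g4⟩ := h1
    have hfix : (sgEl H g1 g2 g3).1.1 (D.P.e 0) = D.P.e 0 := by
      rw [sgEl_apply]; simp [D.P.hee, D.P.hed]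
    have hd : (sgEl H g1 g2 g3).1.1 ((-D.th * u) • D.P.d) - (-D.th * u) • D.P.d = 0 + (D.th * u) • D.P.e 0 := by
      rw [sgEl_apply]; simp [H.neg_left, H.smul_left, D.P.hde, D.P.hdd]
    refine ((ha.diff g4 hfix).congr rfl hd rfl).shift _ |>.congr rfl rfl ?_
    rw [hd]
    simp only [zero_add, H.smul_left, H.smul_right, D.P.hde, mul_zero, map_mul]
    linear_combination u * D.hth - H.σ D.th * hu
  obtain ⟨lamv, hl⟩ : ∃ lamv, H.h (g.1.1 (D.P.e 0)) (D.P.e 0) = lamv := ⟨_, rfl⟩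
  have hfC := uCentres_smul (uCentres_map hC hg) lamv⁻¹
  refine eq_top_of_parabolic (Or.inr ⟨by rw [D.P.finrank_eq], hq⟩) (D.P.hee 0 0) (f := lamv⁻¹ • g.1.1 (D.P.e 0))
    (by rw [H.smul_left, hl, inv_mul_cancel₀ (hl ▸ hge)]) hfC fun w a hw ha => ?_
  have hXX : XX K (D.P.e 0) w := by
    rw [D.P.span w, Finset.sum_range_one, hw, zero_smul, add_zero]
    exact XX.add (XX.centre (D.P.hee 0 0) _) (hX _)
  obtain ⟨a', h⟩ := hXX
  exact h.any hC ha

theorem z_sq : D.z * D.z = 1 := by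
  have hz2 : D.z * D.z * H.σ (D.z * D.z) = 1 := by
    rw [map_mul]; linear_combination (D.z * H.σ D.z + 1) * D.hz
  let u : Fˣ := Units.mkOfMulEqOne _ _ hz2
  let zk : (normUnits H.σ).ker := ⟨u, MonoidHom.mem_ker.mpr (Units.ext (by rw [coe_normUnits]; exact hz2))⟩
  have he : (D.M * D.M).1 = H.qrefl D.P.hdd zk := by
    refine H.isom_ext fun x => ?_
    change D.M.1.1 (D.M.1.1 x) = _
    conv_lhs => rw [D.P.span x, Finset.sum_range_one]
    rw [H.qrefl_apply]
    simp only [map_add, map_smul, D.M_e_last, D.M_f_last, D.M_d, smul_smul]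
    conv_rhs => arg 1; rw [D.P.span x, Finset.sum_range_one]
    show _ = _ + (((D.z * D.z) - 1) * H.h x D.P.d) • D.P.d
    module
  have h := congrArg H.detHom he
  rw [H.det_qrefl, MonoidHom.mem_ker.mp (D.M * D.M).2] at h
  exact (congrArg Units.val h).symm

theorem sw_conj {t : F} (ht : H.σ t = -t) :
    D.sw t ht * D.U * (D.sw t ht)⁻¹ = sgEl H (b := D.P.e 0) (w := -D.P.d) (a := -D.th + t) (D.P.hee 0 0)
      D.short_perp (by
        have := D.short_trace
        rw [map_add, ht]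
        linear_combination this) := by
  rw [U, show D.lev 0 = 1 from rfl, mul_one, sEl, sgEl_conj]
  refine H.sisom_ext fun x => ?_
  have e0 : (D.sw t ht).1.1 (D.P.e 0) = D.P.e 0 := by
    rw [sw, sgEl_apply]; simp [H.neg_right, H.smul_right, D.P.hee, D.P.hed]
  have ed : (D.sw t ht).1.1 (-D.P.d) = -D.P.d + (-H.σ D.th * H.σ t) • D.P.e 0 := by
    rw [sw, sgEl_apply]; simp [H.neg_right, H.smul_right, H.neg_left, D.P.hde, D.P.hdd]
  rw [sgEl_apply, sgEl_apply, e0, ed]
  simp only [H.add_right, H.smul_right, map_mul, map_neg, H.conj.invol, ht]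
  match_scalars
  · ring
  · ring
  · linear_combination (H.h x (D.P.e 0) * t) * D.hth

end Data

end Cfsg.Lib.SUThreeUnip
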