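import Cfsg.Agent.Known.SUTwoUnip.Borel

/-! # Two conjugate regular unipotent elements generate in dimension three -/

set_option autoImplicit false
set_option linter.style.haveILetI false

namespace Cfsg.Lib.SUThreeUnip

open Cfsg.Lib.Classical Cfsg.Lib.Classical.HermSpace

universe u v

variable {F : Type u} [Field F] [Finite F] {V : Type v} [AddCommGroup V] [Module F V] [FiniteDimensional F V]

namespace Data

variable {H : HermSpace F V} (D : Data H 0)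

theorem exists_swap {s : F} (hs0 : s ≠ 0) (hs : s + H.σ s = 0) : ∃ S : H.SIsom,
    S.1.1 (D.P.e 0) = (-s⁻¹) • D.P.f 0 ∧ S.1.1 (D.P.f 0) = s • D.P.e 0 ∧ S.1.1 D.P.d = D.P.d := by
  have hr : -s⁻¹ + H.σ (-s⁻¹) = 0 := by
    rw [map_neg, map_inv₀, eq_neg_of_add_eq_zero_right hs, inv_neg]; ring
  obtain ⟨A, hA⟩ : ∃ A, A = sgEl H (b := D.P.e 0) (w := 0) (a := s) (D.P.hee 0 0) (H.zero_left _)
      (by rw [hs, H.zero_left, neg_zero]) := ⟨_, rfl⟩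
  obtain ⟨B, hB⟩ : ∃ B, B = sgEl H (b := D.P.f 0) (w := 0) (a := -s⁻¹) (D.P.hff 0 0) (H.zero_left _)
      (by rw [hr, H.zero_left, neg_zero]) := ⟨_, rfl⟩
  refine ⟨A * B * A, ?_, ?_, ?_⟩ <;>
    simp [H.smul_mul_apply, hA, hB, sgEl_apply, H.zero_right, H.add_left, H.smul_left, H.neg_left, D.P.hee,
      D.P.hff, D.P.hde, D.P.hdf, D.P.hed, D.P.hfd, D.P.hef_self le_rfl, D.P.hfe_self le_rfl, hs0]

theorem exists_opp {ρ : F} (hρ0 : ρ ≠ 0) (hρ : H.σ ρ = ρ) :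
    ∃ g : H.SIsom, g.1.1 (D.P.e 0) = ρ • D.P.f 0 ∧ g.1.1 D.P.d = D.z • D.P.d := by
  obtain ⟨s, hs0, hs⟩ := H.conj.exists_skew
  obtain ⟨S, S1, S2, S3⟩ := D.exists_swap hs0 hs
  obtain ⟨T, T1, T2, T3⟩ := D.exists_swap (s := -ρ * s) (mul_ne_zero (neg_ne_zero.2 hρ0) hs0) (by
    rw [map_mul, map_neg, hρ]; linear_combination (-ρ) * hs)
  refine ⟨D.M * (T * S), ?_, ?_⟩
  · rw [H.smul_mul_apply, H.smul_mul_apply, S1, map_smul, T2, map_smul, map_smul, D.M_e_last, smul_smul]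
    congr 1
    field_simp
  · rw [H.smul_mul_apply, H.smul_mul_apply, S3, T3, D.M_d]

end Data

/-- A conjugate of the regular unipotent element at the opposite centre. -/
theorem exists_pair (H : HermSpace F V) (hd : Module.finrank F V = 3) {th θ c : F} (hth : th + H.σ th = 1)
    (hθ : θ + H.σ θ = 1) (hc : H.σ c = c) (hc0 : c ≠ 0) :
    ∃ (D : Data H 0) (g W : H.SIsom), D.th = th ∧ W = g * D.U * g⁻¹ ∧
      W.1.1 (D.P.e 0) = D.P.e 0 + c • D.P.d + (-θ * (c * c)) • D.P.f 0 ∧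
      W.1.1 D.P.d = D.P.d + (-c) • D.P.f 0 ∧ W.1.1 (D.P.f 0) = D.P.f 0 := by
  obtain ⟨D, rfl⟩ := exists_data H (l := 0) hd hth
  have hzσ : H.σ D.z = D.z := by
    linear_combination (-(H.σ D.z)) * D.z_sq + D.z * D.hz
  have hz0 : D.z ≠ 0 := left_ne_zero_of_mul_eq_one D.hz
  obtain ⟨ρ, hρ⟩ : ∃ ρ, ρ = -(c * D.z) := ⟨_, rfl⟩
  have hρσ : H.σ ρ = ρ := by rw [hρ, map_neg, map_mul, hc, hzσ]
  obtain ⟨G, G0, Gd⟩ := D.exists_opp (hρ ▸ neg_ne_zero.2 (mul_ne_zero hc0 hz0)) hρσ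
  have ht : H.σ (D.th - θ) = -(D.th - θ) := by
    rw [map_sub]; linear_combination D.hth - hθ
  obtain ⟨W, hW⟩ : ∃ W, W = G * (D.sw _ ht * D.U * (D.sw _ ht)⁻¹) * G⁻¹ := ⟨_, rfl⟩
  have hWa : ∀ x, W.1.1 x = x + (c * H.h x (D.P.f 0)) • D.P.d +
      (-θ * (c * c) * H.h x (D.P.f 0) - c * H.h x D.P.d) • D.P.f 0 := by
    intro x
    rw [hW, D.sw_conj ht, sgEl_conj, sgEl_apply, G0, map_neg, Gd]
    simp only [H.smul_right, H.neg_right, hρσ, hzσ]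
    match_scalars
    · ring
    · rw [hρ]; linear_combination (c * H.h x (D.P.f 0)) * D.z_sq
    · rw [hρ]; linear_combination (-θ * (c * c) * H.h x (D.P.f 0) - c * H.h x D.P.d) * D.z_sq
  refine ⟨D, G * D.sw _ ht, W, rfl, by rw [hW]; simp [mul_assoc], ?_, ?_, ?_⟩
  · rw [hWa, D.P.hef_self le_rfl, D.P.hed]; module
  · rw [hWa, D.P.hdf, D.P.hdd]; module
  · rw [hWa, D.P.hff, D.P.hfd]; module

/-- Two conjugates generate once the cube of the ratio generates the field. -/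
theorem exists_two_of_th (H : HermSpace F V) (hd : Module.finrank F V = 3) (hq : 3 ≤ H.q) {θ : F}
    (hθ : θ + H.σ θ = 1) (hgen : ∀ S : Subfield F, (H.σ θ / θ) ^ 3 ∈ S → S = ⊤) :
    ∃ (D : Data H 0) (g : H.SIsom), Subgroup.closure ({D.U, g * D.U * g⁻¹} : Set H.SIsom) = ⊤ := by
  have hθ0 : θ ≠ 0 := fun h => by rw [h, map_zero, add_zero] at hθ; exact zero_ne_one hθ
  have hσ0 : H.σ θ ≠ 0 := (map_ne_zero _).2 hθ0
  obtain ⟨n, hn⟩ : ∃ n, n = θ * H.σ θ := ⟨_, rfl⟩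
  have hn0 : n ≠ 0 := hn ▸ mul_ne_zero hθ0 hσ0
  have hnσ : H.σ n = n := by rw [hn, H.conj.norm_mem]
  obtain ⟨th, hth⟩ : ∃ th, th = H.σ θ + n * (θ - H.σ θ) := ⟨_, rfl⟩
  have hth1 : th + H.σ th = 1 := by
    rw [hth, map_add, map_mul, map_sub, hnσ, H.conj.invol]; linear_combination hθ
  obtain ⟨D, g, W, rfl, hW', We, Wd, Wf⟩ := exists_pair H hd hth1 hθ (c := -n⁻¹)
    (by rw [map_neg, map_inv₀, hnσ]) (neg_ne_zero.2 (inv_ne_zero hn0))
  refine ⟨D, g, ?_⟩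
  set K := Subgroup.closure ({D.U, g * D.U * g⁻¹} : Set H.SIsom) with hK
  have hU : D.U ∈ K := Subgroup.subset_closure (by simp)
  have hW : W ∈ K := hW' ▸ Subgroup.subset_closure (by simp)
  have hfe := D.P.hfe_self (le_refl 0)
  have hef := D.P.hef_self (le_refl 0)
  have Uf : D.U.1.1 (D.P.f 0) = D.P.f 0 - D.P.d - D.th • D.P.e 0 := D.U_f_last
  have Ud : D.U.1.1 D.P.d = D.P.d + D.P.e 0 := D.U_d
  have hw : ∀ x, (D.U * W * (D.U * W)).1.1 x = D.U.1.1 (W.1.1 (D.U.1.1 (W.1.1 x))) := fun x => rfl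
  have hs1 : H.σ θ = 1 - θ := by linear_combination hθ
  have k0 : (D.U * W * (D.U * W)).1.1 (D.P.e 0) = (θ / H.σ θ) • D.P.e 0 := by
    rw [hw, We]
    simp only [map_add, map_sub, map_smul, D.U_e_zero, Ud, Uf, We, Wd, Wf]
    rw [hth]
    have hθ' : 1 - θ ≠ 0 := hs1 ▸ hσ0
    match_scalars
    all_goals simp only [hn, hs1]
    all_goals field_simp
    all_goals ring
  obtain ⟨c, kd⟩ : ∃ c, (D.U * W * (D.U * W)).1.1 D.P.d = (H.σ θ / θ) ^ 2 • D.P.d + c • D.P.e 0 := by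
    refine ⟨H.h ((D.U * W * (D.U * W)).1.1 D.P.d) (D.P.f 0), ?_⟩
    rw [hw, Wd]
    simp only [map_add, map_sub, map_smul, D.U_e_zero, Ud, Uf, We, Wd, Wf]
    simp only [H.add_left, H.sub_left, H.smul_left, hef, D.P.hdf, D.P.hff]
    rw [hth]
    have hθ' : 1 - θ ≠ 0 := hs1 ▸ hσ0
    match_scalars
    all_goals simp only [hn, hs1]
    all_goals field_simp
    all_goals ring
  refine D.eq_top_of_borel hq hU hW ?_ (mul_mem (mul_mem hU hW) (mul_mem hU hW)) k0 kd fun S hS => hgen S ?_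
  · rw [We]
    simp [H.neg_left, H.add_left, H.smul_left, D.P.hee, D.P.hde, hfe, hθ0, hn0]
  · convert hS using 1
    rw [map_div₀, H.conj.invol]
    ring

end Cfsg.Lib.SUThreeUnip
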