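import Cfsg.Agent.Known.SUTwoUnip.Special
import Cfsg.Agent.Classical.Unitary.Matrix

/-! # Two conjugate regular unipotent elements generate a unitary group of degree three -/

set_option autoImplicit false
set_option linter.style.haveILetI false

namespace Cfsg.Lib.SUThreeUnip

open Cfsg.Lib.Classical Matrix

universe u v

variable {F : Type u} [Field F]

theorem arith_three {q r d : ℕ} (hq : 3 ≤ q) (h5 : q ≠ 5) (h8 : q ≠ 8) (hr : 2 ≤ r) (hd : 2 ≤ d)
    (h : q ^ 2 = r ^ d) (hdvd : q + 1 ∣ 3 * (r - 1)) : False := by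
  rcases Nat.eq_or_lt_of_le hd with rfl | hd3
  · obtain rfl : q = r := Nat.pow_left_injective (by norm_num) h
    have h6 : q + 1 ∣ 6 := by
      have := Nat.dvd_sub (dvd_mul_left (q + 1) 3) hdvd
      rwa [show 3 * (q + 1) - 3 * (q - 1) = 6 by omega] at this
    have h7 : q + 1 ≤ 6 := Nat.le_of_dvd (by norm_num) h6
    replace h7 : q ≤ 5 := by omega
    interval_cases q <;> simp_all (config := { decide := true })
  · have h3 : r ^ 3 ≤ q ^ 2 := h ▸ Nat.pow_le_pow_right (by omega) hd3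
    have hle := Nat.le_of_dvd (by omega) hdvd
    have hle' : q + 4 ≤ 3 * r := by omega
    rcases Nat.lt_or_ge r 5 with hr5 | hr5
    · interval_cases r
      · omega
      · have hq5 : q ≤ 5 := by omega
        interval_cases q <;> simp_all
      · have hq8 : q ≤ 8 := by omega
        interval_cases q <;> simp_all
    · obtain ⟨j, rfl⟩ : ∃ j, r = j + 5 := ⟨r - 5, by omega⟩
      have hsq : q ^ 2 ≤ (3 * j + 11) ^ 2 := Nat.pow_le_pow_left (by omega) 2
      nlinarith [Nat.zero_le j, Nat.zero_le (j * j), Nat.zero_le (j * j * j)]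

/-- Two conjugates generate in dimension three. -/
theorem exists_two_isom [Finite F] {V : Type v} [AddCommGroup V] [Module F V] [FiniteDimensional F V]
    (H : HermSpace F V) (hd : Module.finrank F V = 3) (hq : 3 ≤ H.q) :
    ∃ (D : Data H 0) (g : H.SIsom), Subgroup.closure ({D.U, g * D.U * g⁻¹} : Set H.SIsom) = ⊤ := by
  by_cases h5 : H.q = 5
  · exact exists_two_q5 H hd h5
  by_cases h8 : H.q = 8
  · exact exists_two_q8 H hd h8
  obtain ⟨ζ, hn, ho⟩ := exists_normOne_gen H
  have hζ := left_ne_zero_of_mul_eq_one hn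
  have h1 := one_add_ne (H := H) ho
  have hσ : H.σ (1 + ζ)⁻¹ / (1 + ζ)⁻¹ = ζ := by
    have hth := trace_inv_one_add (H := H) hn h1
    rw [show H.σ (1 + ζ)⁻¹ = 1 - (1 + ζ)⁻¹ by linear_combination hth]
    field_simp
    ring
  refine exists_two_of_th H hd hq (θ := (1 + ζ)⁻¹) (trace_inv_one_add hn h1) fun S hS => ?_
  rw [hσ] at hS
  by_contra hS'
  obtain ⟨d, hd2, hc, hr⟩ := card_proper S hS'
  rw [H.card_field] at hc
  refine arith_three hq h5 h8 hr hd2 hc ?_
  rw [← ho]
  exact orderOf_dvd_of_pow_eq_one (by rw [pow_mul]; exact pow_card_sub_one hS (pow_ne_zero 3 hζ))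

/-- Two conjugate regular unipotent elements generate `SU₃`. -/
theorem exists_two [Fintype F] {q : ℕ} (hF : Fintype.card F = q ^ 2) (hq : 3 ≤ q) :
    ∃ u g : ↥(Cfsg.SU 3 F q),
      (IsNilpotent (((u : Matrix.SpecialLinearGroup (Fin 3) F) : Matrix (Fin 3) (Fin 3) F) - 1) ∧
        (((u : Matrix.SpecialLinearGroup (Fin 3) F) : Matrix (Fin 3) (Fin 3) F) - 1) ^ (3 - 1) ≠ 0) ∧
      Subgroup.closure ({u, g * u * g⁻¹} : Set ↥(Cfsg.SU 3 F q)) = ⊤ := by
  obtain ⟨D, g, hc⟩ := exists_two_isom (stdHerm 3 hF) (Module.finrank_fin_fun _) (by rw [stdHerm_q]; exact hq)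
  set φ := suEquiv 3 hF with hφ
  have hlin : ∀ r, Matrix.toLin' (((((φ D.U : Cfsg.SU 3 F q) :
      Matrix.SpecialLinearGroup (Fin 3) F) : Matrix (Fin 3) (Fin 3) F) - 1) ^ r) = D.nil ^ r := fun r => by
    rw [Matrix.toLin'_pow, map_sub, Matrix.toLin'_one, hφ, suEquiv_coe]
    congr 2
    exact LinearMap.ext fun x => by rw [Matrix.toLin'_apply, unitToGL_mulVec]; rfl
  refine ⟨φ D.U, φ g, ⟨⟨3, ?_⟩, ?_⟩, ?_⟩
  · apply Matrix.toLin'.injective
    rw [hlin, map_zero]
    exact D.nil_pow_top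
  · intro h0
    apply D.nil_pow_ne
    show D.nil ^ 2 = 0
    rw [← hlin, show (2 : ℕ) = 3 - 1 by omega, h0, map_zero]
  · have := congrArg (Subgroup.map φ.toMonoidHom) hc
    rw [MonoidHom.map_closure, Subgroup.map_top_of_surjective _ φ.surjective] at this
    simpa [Set.image_insert_eq, map_mul, map_inv] using this

end Cfsg.Lib.SUThreeUnip
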