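import Cfsg.Agent.Known.SUTwoUnip.Gen

/-! # The fields with 25 and 64 elements -/

set_option autoImplicit false
set_option linter.style.haveILetI false
set_option maxHeartbeats 2000000

namespace Cfsg.Lib.SUThreeUnip

open Cfsg.Lib.Classical Cfsg.Lib.Classical.HermSpace

universe u v

variable {F : Type u} [Field F] [Finite F] {V : Type v} [AddCommGroup V] [Module F V] [FiniteDimensional F V]

namespace Data

variable {H : HermSpace F V} (D : Data H 0)

theorem stepU {th : F} (hth : D.th = th) {a b g a' b' g' : F} (e1 : a + b + -(th * g) = a') (e2 : b + -g = b')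
    (e3 : g = g') : D.U.1.1 (a • D.P.e 0 + b • D.P.d + g • D.P.f 0) =
      a' • D.P.e 0 + b' • D.P.d + g' • D.P.f 0 := by
  subst e1 e2 e3
  simp only [map_add, map_smul, D.U_e_zero, D.U_d, D.U_f_last, hth]
  module

theorem stepW {W : H.SIsom} {c θ : F} (hWe : W.1.1 (D.P.e 0) = D.P.e 0 + c • D.P.d + (-θ * (c * c)) • D.P.f 0)
    (hWd : W.1.1 D.P.d = D.P.d + (-c) • D.P.f 0) (hWf : W.1.1 (D.P.f 0) = D.P.f 0) {a b g a' b' g' : F}
    (e1 : a = a') (e2 : b + c * a = b') (e3 : g + -(θ * (c * c) * a) + -(c * b) = g') :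
    W.1.1 (a • D.P.e 0 + b • D.P.d + g • D.P.f 0) = a' • D.P.e 0 + b' • D.P.d + g' • D.P.f 0 := by
  subst e1 e2 e3
  simp only [map_add, map_smul, hWe, hWd, hWf]
  module

end Data

/-- The certificate. -/
theorem exists_two_five (H : HermSpace F V) (hd : Module.finrank F V = 3) (hq : 3 ≤ H.q) {x : F}
    (hx : ((-2) + x ^ 2 : F) = 0) (hp : (5 : F) = 0) (hσ : H.σ x = (4 * x : F))
    (hgen : ∀ S : Subfield F, (x : F) ∈ S → S = ⊤) :
    ∃ (D : Data H 0) (g : H.SIsom), Subgroup.closure ({D.U, g * D.U * g⁻¹} : Set H.SIsom) = ⊤ := by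
  have trth : (3 + x : F) + H.σ (3 + x : F) = 1 := by
    simp only [map_add, map_mul, map_pow, map_one, map_zero, map_ofNat, hσ]
    linear_combination (0 : F) * hx + (1 + x : F) * hp
  have trt0 : (3 + 3 * x : F) + H.σ (3 + 3 * x : F) = 1 := by
    simp only [map_add, map_mul, map_pow, map_one, map_zero, map_ofNat, hσ]
    linear_combination (0 : F) * hx + (1 + 3 * x : F) * hp
  have realc : H.σ (3 : F) = (3 : F) := by
    simp only [map_add, map_mul, map_pow, map_one, map_zero, map_ofNat, hσ]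
    try linear_combination (0 : F) * hx + (0 : F) * hp
  have hc0 : (3 : F) ≠ 0 := left_ne_zero_of_mul_eq_one (b := (2 : F)) (by linear_combination (0 : F) * hx + (1 : F) * hp)
  obtain ⟨D, g, W, hth, hW', hWe, hWd, hWf⟩ := exists_pair H hd trth trt0 realc hc0
  refine ⟨D, g, ?_⟩
  set K := Subgroup.closure ({D.U, g * D.U * g⁻¹} : Set H.SIsom)
  have hU : D.U ∈ K := Subgroup.subset_closure (by simp)
  have hW : W ∈ K := hW' ▸ Subgroup.subset_closure (by simp)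
  have k0 : (W * W * D.U * W * D.U * W).1.1 ((1 : F) • D.P.e 0 + (0 : F) • D.P.d + (0 : F) • D.P.f 0) = (1 + 2 * x : F) • D.P.e 0 + (0 : F) • D.P.d + (0 : F) • D.P.f 0 := by
    simp only [H.smul_mul_apply]
    rw [D.stepW hWe hWd hWf (a := (1 : F)) (b := (0 : F)) (g := (0 : F))
      (a' := (1 : F)) (b' := (3 : F)) (g' := (3 + 3 * x : F))
      (by linear_combination (0 : F) * hx + (0 : F) * hp)
      (by linear_combination (0 : F) * hx + (0 : F) * hp)
      (by linear_combination (0 : F) * hx + ((-6) + (-6) * x : F) * hp)]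
    rw [D.stepU hth (a := (1 : F)) (b := (3 : F)) (g := (3 + 3 * x : F))
      (a' := (4 + 3 * x : F)) (b' := (2 * x : F)) (g' := (3 + 3 * x : F))
      (by linear_combination ((-3) : F) * hx + ((-3) + (-3) * x : F) * hp)
      (by linear_combination (0 : F) * hx + ((-1) * x : F) * hp)
      (by linear_combination (0 : F) * hx + (0 : F) * hp)]
    rw [D.stepW hWe hWd hWf (a := (4 + 3 * x : F)) (b := (2 * x : F)) (g := (3 + 3 * x : F))
      (a' := (4 + 3 * x : F)) (b' := (2 + x : F)) (g' := (3 + 3 * x : F))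
      (by linear_combination (0 : F) * hx + (0 : F) * hp)
      (by linear_combination (0 : F) * hx + (2 + 2 * x : F) * hp)
      (by linear_combination ((-81) : F) * hx + ((-54) + (-39) * x : F) * hp)]
    rw [D.stepU hth (a := (4 + 3 * x : F)) (b := (2 + x : F)) (g := (3 + 3 * x : F))
      (a' := (1 + 2 * x : F)) (b' := (4 + 3 * x : F)) (g' := (3 + 3 * x : F))
      (by linear_combination ((-3) : F) * hx + ((-2) + (-2) * x : F) * hp)
      (by linear_combination (0 : F) * hx + ((-1) + (-1) * x : F) * hp)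
      (by linear_combination (0 : F) * hx + (0 : F) * hp)]
    rw [D.stepW hWe hWd hWf (a := (1 + 2 * x : F)) (b := (4 + 3 * x : F)) (g := (3 + 3 * x : F))
      (a' := (1 + 2 * x : F)) (b' := (2 + 4 * x : F)) (g' := (1 + 3 * x : F))
      (by linear_combination (0 : F) * hx + (0 : F) * hp)
      (by linear_combination (0 : F) * hx + (1 + x : F) * hp)
      (by linear_combination ((-54) : F) * hx + ((-29) + (-18) * x : F) * hp)]
    rw [D.stepW hWe hWd hWf (a := (1 + 2 * x : F)) (b := (2 + 4 * x : F)) (g := (1 + 3 * x : F))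
      (a' := (1 + 2 * x : F)) (b' := (0 : F)) (g' := (0 : F))
      (by linear_combination (0 : F) * hx + (0 : F) * hp)
      (by linear_combination (0 : F) * hx + (1 + 2 * x : F) * hp)
      (by linear_combination ((-54) : F) * hx + ((-28) + (-18) * x : F) * hp)]
  have kd : (W * W * D.U * W * D.U * W).1.1 ((0 : F) • D.P.e 0 + (1 : F) • D.P.d + (0 : F) • D.P.f 0) = (2 + 2 * x : F) • D.P.e 0 + (3 + 2 * x : F) • D.P.d + (0 : F) • D.P.f 0 := by
    simp only [H.smul_mul_apply]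
    rw [D.stepW hWe hWd hWf (a := (0 : F)) (b := (1 : F)) (g := (0 : F))
      (a' := (0 : F)) (b' := (1 : F)) (g' := (2 : F))
      (by linear_combination (0 : F) * hx + (0 : F) * hp)
      (by linear_combination (0 : F) * hx + (0 : F) * hp)
      (by linear_combination (0 : F) * hx + ((-1) : F) * hp)]
    rw [D.stepU hth (a := (0 : F)) (b := (1 : F)) (g := (2 : F))
      (a' := (3 * x : F)) (b' := (4 : F)) (g' := (2 : F))
      (by linear_combination (0 : F) * hx + ((-1) + (-1) * x : F) * hp)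
      (by linear_combination (0 : F) * hx + ((-1) : F) * hp)
      (by linear_combination (0 : F) * hx + (0 : F) * hp)]
    rw [D.stepW hWe hWd hWf (a := (3 * x : F)) (b := (4 : F)) (g := (2 : F))
      (a' := (3 * x : F)) (b' := (4 + 4 * x : F)) (g' := (3 + 4 * x : F))
      (by linear_combination (0 : F) * hx + (0 : F) * hp)
      (by linear_combination (0 : F) * hx + (x : F) * hp)
      (by linear_combination ((-81) : F) * hx + ((-35) + (-17) * x : F) * hp)]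
    rw [D.stepU hth (a := (3 * x : F)) (b := (4 + 4 * x : F)) (g := (3 + 4 * x : F))
      (a' := (2 + 2 * x : F)) (b' := (1 : F)) (g' := (3 + 4 * x : F))
      (by linear_combination ((-4) : F) * hx + ((-3) + (-2) * x : F) * hp)
      (by linear_combination (0 : F) * hx + (0 : F) * hp)
      (by linear_combination (0 : F) * hx + (0 : F) * hp)]
    rw [D.stepW hWe hWd hWf (a := (2 + 2 * x : F)) (b := (1 : F)) (g := (3 + 4 * x : F))
      (a' := (2 + 2 * x : F)) (b' := (2 + x : F)) (g' := (3 + x : F))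
      (by linear_combination (0 : F) * hx + (0 : F) * hp)
      (by linear_combination (0 : F) * hx + (1 + x : F) * hp)
      (by linear_combination ((-54) : F) * hx + ((-33) + (-21) * x : F) * hp)]
    rw [D.stepW hWe hWd hWf (a := (2 + 2 * x : F)) (b := (2 + x : F)) (g := (3 + x : F))
      (a' := (2 + 2 * x : F)) (b' := (3 + 2 * x : F)) (g' := (0 : F))
      (by linear_combination (0 : F) * hx + (0 : F) * hp)
      (by linear_combination (0 : F) * hx + (1 + x : F) * hp)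
      (by linear_combination ((-54) : F) * hx + ((-33) + (-22) * x : F) * hp)]
  simp only [zero_smul, one_smul, add_zero, zero_add] at k0 kd
  refine D.eq_top_of_borel hq hU hW ?_ (k := W * W * D.U * W * D.U * W) (by repeat' first | exact hU | exact hW | refine mul_mem ?_ ?_) k0
    (kd.trans (add_comm _ _)) fun S hS => hgen S ?_
  · have h0 : (3 + 3 * x : F) ≠ 0 := left_ne_zero_of_mul_eq_one (b := (3 + 2 * x : F)) (by linear_combination (6 : F) * hx + (4 + 3 * x : F) * hp)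
    rw [hWe]
    simp only [H.add_left, H.smul_left, D.P.hee, D.P.hde, D.P.hfe_self le_rfl, mul_zero, zero_add, mul_one]
    exact mul_ne_zero (neg_ne_zero.2 h0) (mul_ne_zero hc0 hc0)
  · convert hS using 1
    simp only [map_add, map_mul, map_pow, map_one, map_zero, map_ofNat, hσ]
    symm
    linear_combination (16 : F) * hx + (7 + 5 * x : F) * hp

/-- The certificate. -/
theorem exists_two_eight (H : HermSpace F V) (hd : Module.finrank F V = 3) (hq : 3 ≤ H.q) {x : F}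
    (hx : (1 + x ^ 3 + x ^ 6 : F) = 0) (hp : (2 : F) = 0) (hσ : H.σ x = (x ^ 2 + x ^ 5 : F))
    (hgen : ∀ S : Subfield F, (1 + x + x ^ 2 + x ^ 3 : F) ∈ S → S = ⊤) :
    ∃ (D : Data H 0) (g : H.SIsom), Subgroup.closure ({D.U, g * D.U * g⁻¹} : Set H.SIsom) = ⊤ := by
  have trth : (x + x ^ 2 + x ^ 3 + x ^ 4 : F) + H.σ (x + x ^ 2 + x ^ 3 + x ^ 4 : F) = 1 := by
    simp only [map_add, map_mul, map_pow, map_one, map_zero, map_ofNat, hσ]
    linear_combination ((-1) + x + x ^ 4 + (-1) * x ^ 5 + 2 * x ^ 6 + 2 * x ^ 8 + x ^ 9 + 3 * x ^ 11 + x ^ 14 : F) * hx + (x ^ 2 + x ^ 3 + x ^ 5 : F) * hp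
  have trt0 : (x ^ 3 : F) + H.σ (x ^ 3 : F) = 1 := by
    simp only [map_add, map_mul, map_pow, map_one, map_zero, map_ofNat, hσ]
    linear_combination ((-1) + 2 * x ^ 6 + x ^ 9 : F) * hx + (x ^ 3 : F) * hp
  have realc : H.σ (1 + x ^ 4 + x ^ 5 : F) = (1 + x ^ 4 + x ^ 5 : F) := by
    simp only [map_add, map_mul, map_pow, map_one, map_zero, map_ofNat, hσ]
    try linear_combination (x ^ 4 + (-1) * x ^ 5 + (-1) * x ^ 7 + 2 * x ^ 8 + x ^ 10 + 3 * x ^ 11 + 5 * x ^ 13 + x ^ 14 + 4 * x ^ 16 + x ^ 19 : F) * hx + ((-1) * x ^ 4 : F) * hp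
  have hc0 : (1 + x ^ 4 + x ^ 5 : F) ≠ 0 := left_ne_zero_of_mul_eq_one (b := (x + x ^ 2 + x ^ 4 : F)) (by linear_combination (1 + x + x ^ 2 + x ^ 3 : F) * hx + ((-1) + (-1) * x ^ 3 : F) * hp)
  obtain ⟨D, g, W, hth, hW', hWe, hWd, hWf⟩ := exists_pair H hd trth trt0 realc hc0
  refine ⟨D, g, ?_⟩
  set K := Subgroup.closure ({D.U, g * D.U * g⁻¹} : Set H.SIsom)
  have hU : D.U ∈ K := Subgroup.subset_closure (by simp)
  have hW : W ∈ K := hW' ▸ Subgroup.subset_closure (by simp)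
  have k0 : (W * D.U * W * W * D.U * W * D.U * W).1.1 ((1 : F) • D.P.e 0 + (0 : F) • D.P.d + (0 : F) • D.P.f 0) = (x + x ^ 2 + x ^ 3 + x ^ 4 : F) • D.P.e 0 + (0 : F) • D.P.d + (0 : F) • D.P.f 0 := by
    simp only [H.smul_mul_apply]
    rw [D.stepW hWe hWd hWf (a := (1 : F)) (b := (0 : F)) (g := (0 : F))
      (a' := (1 : F)) (b' := (1 + x ^ 4 + x ^ 5 : F)) (g' := (x ^ 2 + x ^ 3 + x ^ 4 : F))
      (by linear_combination (0 : F) * hx + (0 : F) * hp)
      (by linear_combination (0 : F) * hx + (0 : F) * hp)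
      (by linear_combination ((-2) * x + (-1) * x ^ 2 + 2 * x ^ 3 + x ^ 4 + (-1) * x ^ 5 + (-2) * x ^ 6 + (-1) * x ^ 7 : F) * hx + (x + (-2) * x ^ 3 + x ^ 5 : F) * hp)]
    rw [D.stepU hth (a := (1 : F)) (b := (1 + x ^ 4 + x ^ 5 : F)) (g := (x ^ 2 + x ^ 3 + x ^ 4 : F))
      (a' := (1 + x ^ 2 + x ^ 4 + x ^ 5 : F)) (b' := (1 + x ^ 2 + x ^ 3 + x ^ 5 : F)) (g' := (x ^ 2 + x ^ 3 + x ^ 4 : F))
      (by linear_combination ((-3) + (-2) * x + (-1) * x ^ 2 : F) * hx + (2 + x + x ^ 3 + (-1) * x ^ 5 : F) * hp)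
      (by linear_combination (0 : F) * hx + ((-1) * x ^ 2 + (-1) * x ^ 3 : F) * hp)
      (by linear_combination (0 : F) * hx + (0 : F) * hp)]
    rw [D.stepW hWe hWd hWf (a := (1 + x ^ 2 + x ^ 4 + x ^ 5 : F)) (b := (1 + x ^ 2 + x ^ 3 + x ^ 5 : F)) (g := (x ^ 2 + x ^ 3 + x ^ 4 : F))
      (a' := (1 + x ^ 2 + x ^ 4 + x ^ 5 : F)) (b' := (1 + x ^ 2 + x ^ 4 : F)) (g' := (x : F))
      (by linear_combination (0 : F) * hx + (0 : F) * hp)
      (by linear_combination ((-1) + x ^ 2 + 2 * x ^ 3 + x ^ 4 : F) * hx + (1 + x ^ 5 : F) * hp)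
      (by linear_combination (1 + (-5) * x + (-4) * x ^ 2 + 2 * x ^ 3 + x ^ 4 + (-1) * x ^ 5 + (-4) * x ^ 6 + (-1) * x ^ 7 + x ^ 8 + (-1) * x ^ 9 + (-3) * x ^ 10 + (-3) * x ^ 11 + (-1) * x ^ 12 : F) * hx + ((-1) + 2 * x + 2 * x ^ 2 + (-2) * x ^ 3 + 2 * x ^ 4 + x ^ 5 : F) * hp)]
    rw [D.stepU hth (a := (1 + x ^ 2 + x ^ 4 + x ^ 5 : F)) (b := (1 + x ^ 2 + x ^ 4 : F)) (g := (x : F))
      (a' := (x ^ 2 + x ^ 3 + x ^ 4 : F)) (b' := (1 + x + x ^ 2 + x ^ 4 : F)) (g' := (x : F))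
      (by linear_combination (0 : F) * hx + (1 + (-1) * x ^ 3 : F) * hp)
      (by linear_combination (0 : F) * hx + ((-1) * x : F) * hp)
      (by linear_combination (0 : F) * hx + (0 : F) * hp)]
    rw [D.stepW hWe hWd hWf (a := (x ^ 2 + x ^ 3 + x ^ 4 : F)) (b := (1 + x + x ^ 2 + x ^ 4 : F)) (g := (x : F))
      (a' := (x ^ 2 + x ^ 3 + x ^ 4 : F)) (b' := (1 + x : F)) (g' := (1 + x + x ^ 2 + x ^ 3 : F))
      (by linear_combination (0 : F) * hx + (0 : F) * hp)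
      (by linear_combination (2 * x + 2 * x ^ 2 + x ^ 3 : F) * hx + ((-1) * x + (-1) * x ^ 5 : F) * hp)
      (by linear_combination ((-4) + (-1) * x + 2 * x ^ 2 + (-1) * x ^ 3 + (-3) * x ^ 4 + (-1) * x ^ 5 + 2 * x ^ 6 + 2 * x ^ 7 + (-2) * x ^ 8 + (-4) * x ^ 9 + (-3) * x ^ 10 + (-1) * x ^ 11 : F) * hx + (1 + (-2) * x ^ 2 + 2 * x ^ 3 + x ^ 4 + (-2) * x ^ 5 : F) * hp)]
    rw [D.stepW hWe hWd hWf (a := (x ^ 2 + x ^ 3 + x ^ 4 : F)) (b := (1 + x : F)) (g := (1 + x + x ^ 2 + x ^ 3 : F))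
      (a' := (x ^ 2 + x ^ 3 + x ^ 4 : F)) (b' := (1 + x + x ^ 2 + x ^ 4 : F)) (g' := (x ^ 3 + x ^ 5 : F))
      (by linear_combination (0 : F) * hx + (0 : F) * hp)
      (by linear_combination (2 * x + 2 * x ^ 2 + x ^ 3 : F) * hx + ((-1) * x + (-1) * x ^ 2 + (-1) * x ^ 4 + (-1) * x ^ 5 : F) * hp)
      (by linear_combination ((-4) + 3 * x ^ 2 + (-3) * x ^ 4 + (-1) * x ^ 5 + 2 * x ^ 6 + 2 * x ^ 7 + (-2) * x ^ 8 + (-4) * x ^ 9 + (-3) * x ^ 10 + (-1) * x ^ 11 : F) * hx + (2 + (-1) * x ^ 2 + 2 * x ^ 3 + x ^ 4 + (-3) * x ^ 5 : F) * hp)]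
    rw [D.stepU hth (a := (x ^ 2 + x ^ 3 + x ^ 4 : F)) (b := (1 + x + x ^ 2 + x ^ 4 : F)) (g := (x ^ 3 + x ^ 5 : F))
      (a' := (x + x ^ 2 + x ^ 3 + x ^ 4 : F)) (b' := (1 + x + x ^ 2 + x ^ 3 + x ^ 4 + x ^ 5 : F)) (g' := (x ^ 3 + x ^ 5 : F))
      (by linear_combination ((-1) + (-2) * x + (-1) * x ^ 2 + (-1) * x ^ 3 : F) * hx + (1 + x + x ^ 2 + x ^ 3 + x ^ 4 : F) * hp)
      (by linear_combination (0 : F) * hx + ((-1) * x ^ 3 + (-1) * x ^ 5 : F) * hp)
      (by linear_combination (0 : F) * hx + (0 : F) * hp)]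
    rw [D.stepW hWe hWd hWf (a := (x + x ^ 2 + x ^ 3 + x ^ 4 : F)) (b := (1 + x + x ^ 2 + x ^ 3 + x ^ 4 + x ^ 5 : F)) (g := (x ^ 3 + x ^ 5 : F))
      (a' := (x + x ^ 2 + x ^ 3 + x ^ 4 : F)) (b' := (0 : F)) (g' := (0 : F))
      (by linear_combination (0 : F) * hx + (0 : F) * hp)
      (by linear_combination (1 + 2 * x + 2 * x ^ 2 + x ^ 3 : F) * hx + (0 : F) * hp)
      (by linear_combination ((-1) + (-1) * x + (-1) * x ^ 2 + (-3) * x ^ 3 + (-2) * x ^ 4 + x ^ 6 + (-3) * x ^ 8 + (-4) * x ^ 9 + (-3) * x ^ 10 + (-1) * x ^ 11 : F) * hx + (2 * x ^ 3 + (-1) * x ^ 5 : F) * hp)]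
  have kd : (W * D.U * W * W * D.U * W * D.U * W).1.1 ((0 : F) • D.P.e 0 + (1 : F) • D.P.d + (0 : F) • D.P.f 0) = (x ^ 2 + x ^ 3 + x ^ 5 : F) • D.P.e 0 + (x ^ 4 : F) • D.P.d + (0 : F) • D.P.f 0 := by
    simp only [H.smul_mul_apply]
    rw [D.stepW hWe hWd hWf (a := (0 : F)) (b := (1 : F)) (g := (0 : F))
      (a' := (0 : F)) (b' := (1 : F)) (g' := (1 + x ^ 4 + x ^ 5 : F))
      (by linear_combination (0 : F) * hx + (0 : F) * hp)
      (by linear_combination (0 : F) * hx + (0 : F) * hp)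
      (by linear_combination (0 : F) * hx + ((-1) + (-1) * x ^ 4 + (-1) * x ^ 5 : F) * hp)]
    rw [D.stepU hth (a := (0 : F)) (b := (1 : F)) (g := (1 + x ^ 4 + x ^ 5 : F))
      (a' := (x + x ^ 2 + x ^ 3 + x ^ 4 + x ^ 5 : F)) (b' := (x ^ 4 + x ^ 5 : F)) (g' := (1 + x ^ 4 + x ^ 5 : F))
      (by linear_combination ((-1) + (-2) * x + (-2) * x ^ 2 + (-1) * x ^ 3 : F) * hx + (1 : F) * hp)
      (by linear_combination (0 : F) * hx + ((-1) * x ^ 4 + (-1) * x ^ 5 : F) * hp)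
      (by linear_combination (0 : F) * hx + (0 : F) * hp)]
    rw [D.stepW hWe hWd hWf (a := (x + x ^ 2 + x ^ 3 + x ^ 4 + x ^ 5 : F)) (b := (x ^ 4 + x ^ 5 : F)) (g := (1 + x ^ 4 + x ^ 5 : F))
      (a' := (x + x ^ 2 + x ^ 3 + x ^ 4 + x ^ 5 : F)) (b' := (x ^ 2 + x ^ 3 + x ^ 5 : F)) (g' := (1 + x ^ 2 + x ^ 4 : F))
      (by linear_combination (0 : F) * hx + (0 : F) * hp)
      (by linear_combination (x + 2 * x ^ 2 + 2 * x ^ 3 + x ^ 4 : F) * hx + ((-1) * x ^ 2 + (-1) * x ^ 3 : F) * hp)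
      (by linear_combination (2 + (-3) * x ^ 2 + (-2) * x ^ 3 + (-1) * x ^ 6 + (-1) * x ^ 7 + (-1) * x ^ 8 + (-3) * x ^ 9 + (-4) * x ^ 10 + (-3) * x ^ 11 + (-1) * x ^ 12 : F) * hx + ((-1) + x ^ 2 + (-1) * x ^ 4 + x ^ 5 : F) * hp)]
    rw [D.stepU hth (a := (x + x ^ 2 + x ^ 3 + x ^ 4 + x ^ 5 : F)) (b := (x ^ 2 + x ^ 3 + x ^ 5 : F)) (g := (1 + x ^ 2 + x ^ 4 : F))
      (a' := (x + x ^ 5 : F)) (b' := (1 + x ^ 3 + x ^ 4 + x ^ 5 : F)) (g' := (1 + x ^ 2 + x ^ 4 : F))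
      (by linear_combination ((-2) + (-1) * x + (-1) * x ^ 2 : F) * hx + (1 + x ^ 2 + x ^ 3 : F) * hp)
      (by linear_combination (0 : F) * hx + ((-1) + (-1) * x ^ 4 : F) * hp)
      (by linear_combination (0 : F) * hx + (0 : F) * hp)]
    rw [D.stepW hWe hWd hWf (a := (x + x ^ 5 : F)) (b := (1 + x ^ 3 + x ^ 4 + x ^ 5 : F)) (g := (1 + x ^ 2 + x ^ 4 : F))
      (a' := (x + x ^ 5 : F)) (b' := (1 + x ^ 4 + x ^ 5 : F)) (g' := (1 + x : F))
      (by linear_combination (0 : F) * hx + (0 : F) * hp)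
      (by linear_combination ((-1) * x + x ^ 3 + x ^ 4 : F) * hx + (x + x ^ 5 : F) * hp)
      (by linear_combination (5 + (-1) * x + (-7) * x ^ 2 + (-2) * x ^ 3 + 3 * x ^ 4 + x ^ 5 + (-3) * x ^ 6 + (-3) * x ^ 7 + x ^ 8 + x ^ 9 + (-1) * x ^ 10 + (-2) * x ^ 11 + (-1) * x ^ 12 : F) * hx + ((-3) + 4 * x ^ 2 + (-2) * x ^ 3 + (-2) * x ^ 4 + 2 * x ^ 5 : F) * hp)]
    rw [D.stepW hWe hWd hWf (a := (x + x ^ 5 : F)) (b := (1 + x ^ 4 + x ^ 5 : F)) (g := (1 + x : F))
      (a' := (x + x ^ 5 : F)) (b' := (1 + x ^ 3 + x ^ 4 + x ^ 5 : F)) (g' := (1 + x + x ^ 3 + x ^ 5 : F))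
      (by linear_combination (0 : F) * hx + (0 : F) * hp)
      (by linear_combination ((-1) * x + x ^ 3 + x ^ 4 : F) * hx + (x + (-1) * x ^ 3 + x ^ 5 : F) * hp)
      (by linear_combination (5 + (-6) * x ^ 2 + (-2) * x ^ 3 + 3 * x ^ 4 + x ^ 5 + (-3) * x ^ 6 + (-3) * x ^ 7 + x ^ 8 + x ^ 9 + (-1) * x ^ 10 + (-2) * x ^ 11 + (-1) * x ^ 12 : F) * hx + ((-3) + 3 * x ^ 2 + (-2) * x ^ 3 + (-3) * x ^ 4 + x ^ 5 : F) * hp)]
    rw [D.stepU hth (a := (x + x ^ 5 : F)) (b := (1 + x ^ 3 + x ^ 4 + x ^ 5 : F)) (g := (1 + x + x ^ 3 + x ^ 5 : F))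
      (a' := (x ^ 2 + x ^ 3 + x ^ 5 : F)) (b' := (x + x ^ 4 : F)) (g' := (1 + x + x ^ 3 + x ^ 5 : F))
      (by linear_combination ((-1) + (-2) * x + (-1) * x ^ 2 + (-1) * x ^ 3 : F) * hx + (1 + x + (-1) * x ^ 2 : F) * hp)
      (by linear_combination (0 : F) * hx + ((-1) * x : F) * hp)
      (by linear_combination (0 : F) * hx + (0 : F) * hp)]
    rw [D.stepW hWe hWd hWf (a := (x ^ 2 + x ^ 3 + x ^ 5 : F)) (b := (x + x ^ 4 : F)) (g := (1 + x + x ^ 3 + x ^ 5 : F))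
      (a' := (x ^ 2 + x ^ 3 + x ^ 5 : F)) (b' := (x ^ 4 : F)) (g' := (0 : F))
      (by linear_combination (0 : F) * hx + (0 : F) * hp)
      (by linear_combination (x + x ^ 2 + x ^ 3 + x ^ 4 : F) * hx + ((-1) * x ^ 4 : F) * hp)
      (by linear_combination ((-1) + 2 * x + (-2) * x ^ 2 + (-2) * x ^ 3 + (-1) * x ^ 4 + x ^ 5 + x ^ 6 + (-1) * x ^ 7 + (-1) * x ^ 8 + (-2) * x ^ 9 + (-2) * x ^ 10 + (-2) * x ^ 11 + (-1) * x ^ 12 : F) * hx + (1 + (-1) * x + x ^ 2 + 2 * x ^ 3 + (-1) * x ^ 4 : F) * hp)]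
  simp only [zero_smul, one_smul, add_zero, zero_add] at k0 kd
  refine D.eq_top_of_borel hq hU hW ?_ (k := W * D.U * W * W * D.U * W * D.U * W) (by repeat' first | exact hU | exact hW | refine mul_mem ?_ ?_) k0
    (kd.trans (add_comm _ _)) fun S hS => hgen S ?_
  · have h0 : (x ^ 3 : F) ≠ 0 := left_ne_zero_of_mul_eq_one (b := (1 + x ^ 3 : F)) (by linear_combination (1 : F) * hx + ((-1) : F) * hp)
    rw [hWe]
    simp only [H.add_left, H.smul_left, D.P.hee, D.P.hde, D.P.hfe_self le_rfl, mul_zero, zero_add, mul_one]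
    exact mul_ne_zero (neg_ne_zero.2 h0) (mul_ne_zero hc0 hc0)
  · convert hS using 1
    simp only [map_add, map_mul, map_pow, map_one, map_zero, map_ofNat, hσ]
    symm
    linear_combination ((-1) + x + (-1) * x ^ 2 + 2 * x ^ 3 + (-1) * x ^ 4 + x ^ 5 + x ^ 8 + (-1) * x ^ 9 + 2 * x ^ 10 + 2 * x ^ 12 + x ^ 13 + 3 * x ^ 15 + x ^ 18 : F) * hx + ((-1) * x + (-1) * x ^ 3 : F) * hp

/-- The field with 25 elements. -/
theorem exists_two_q5 (H : HermSpace F V) (hd : Module.finrank F V = 3) (h5 : H.q = 5) :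
    ∃ (D : Data H 0) (g : H.SIsom), Subgroup.closure ({D.U, g * D.U * g⁻¹} : Set H.SIsom) = ⊤ := by
  have := Fintype.ofFinite F
  obtain ⟨m, hn, ho⟩ := exists_normOne_gen H
  have hm0 : m ≠ 0 := left_ne_zero_of_mul_eq_one hn
  have hm6 : m ^ 6 = 1 := by rw [show 6 = orderOf m by omega]; exact pow_orderOf_eq_one m
  have hm2 : m ^ 2 ≠ 1 := fun h => by
    have := Nat.le_of_dvd (by omega) (orderOf_dvd_of_pow_eq_one h)
    omega
  have hm3 : m ^ 3 = -1 := by
    have h3 : m ^ 3 ≠ 1 := fun h => by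
      have := Nat.le_of_dvd (by omega) (orderOf_dvd_of_pow_eq_one h)
      omega
    exact (mul_eq_zero.1 (by linear_combination hm6 : (m ^ 3 - 1) * (m ^ 3 + 1) = 0)).resolve_left
      (sub_ne_zero.2 h3) |> eq_neg_of_add_eq_zero_left
  have hmm : m ^ 2 - m + 1 = 0 := by
    have h1 : m + 1 ≠ 0 := fun h => hm2 (by linear_combination (m - 1) * h)
    exact (mul_eq_zero.1 (by linear_combination hm3 : (m + 1) * (m ^ 2 - m + 1) = 0)).resolve_left h1
  have h55 : (5 : F) = 0 := by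
    have hc := FiniteField.cast_card_eq_zero F
    rw [← Nat.card_eq_fintype_card, H.card_field, h5] at hc
    push_cast at hc
    exact pow_eq_zero_iff (n := 2) (by norm_num) |>.1 (show (5 : F) ^ 2 = 0 by linear_combination hc)
  have hs : H.σ m = 1 - m := by
    rw [eq_inv_of_mul_eq_one_right hn]
    exact inv_eq_of_mul_eq_one_right (by linear_combination -hmm)
  have hx : (2 * m - 1) ^ 2 = 2 := by linear_combination 4 * hmm - h55
  refine exists_two_five H hd (by omega) (x := 2 * m - 1) (by linear_combination hx) h55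
    (by rw [map_sub, map_mul, map_one, map_ofNat, hs]; linear_combination (-(2 * m - 1)) * h55) fun S hS => ?_
  by_contra hS'
  obtain ⟨d, hd2, hc, hr⟩ := card_proper S hS'
  rw [H.card_field, h5] at hc
  have hle : Nat.card S ≤ 5 :=
    (Nat.pow_le_pow_iff_left (n := 2) (by norm_num)).1 (hc ▸ Nat.pow_le_pow_right (by omega) hd2)
  have hdle : d ≤ 4 := by
    by_contra hcon
    have h1 := Nat.pow_le_pow_right (show 1 ≤ 2 by norm_num) (show 5 ≤ d by omega)
    have h2 := Nat.pow_le_pow_left hr d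
    omega
  have hcard : Nat.card S = H.q := by
    rw [h5]
    generalize Nat.card S = r at hc hle hr
    interval_cases r <;> interval_cases d <;> omega
  have hfix := mem_fixed_of_card hcard hS
  rw [map_sub, map_mul, map_one, map_ofNat, hs] at hfix
  have h0 : (2 * m - 1 : F) = 0 := by linear_combination (2 : F) * hfix + (2 * m - 1) * h55
  rw [h0] at hx
  apply one_ne_zero (α := F)
  linear_combination (-3 : F) * hx - h55

/-- The field with 64 elements. -/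
theorem exists_two_q8 (H : HermSpace F V) (hd : Module.finrank F V = 3) (h8 : H.q = 8) :
    ∃ (D : Data H 0) (g : H.SIsom), Subgroup.closure ({D.U, g * D.U * g⁻¹} : Set H.SIsom) = ⊤ := by
  have := Fintype.ofFinite F
  obtain ⟨x, hn, ho⟩ := exists_normOne_gen H
  have h9 : x ^ 9 = 1 := by rw [show 9 = orderOf x by omega]; exact pow_orderOf_eq_one x
  have h3 : x ^ 3 ≠ 1 := fun h => by
    have := Nat.le_of_dvd (by omega) (orderOf_dvd_of_pow_eq_one h)
    omega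
  have h22 : (2 : F) = 0 := by
    have hc := FiniteField.cast_card_eq_zero F
    rw [← Nat.card_eq_fintype_card, H.card_field, h8] at hc
    push_cast at hc
    exact pow_eq_zero_iff (n := 6) (by norm_num) |>.1 (show (2 : F) ^ 6 = 0 by linear_combination hc)
  have hx : x ^ 6 + x ^ 3 + 1 = 0 :=
    (mul_eq_zero.1 (by linear_combination h9 : (x ^ 3 - 1) * (x ^ 6 + x ^ 3 + 1) = 0)).resolve_left (sub_ne_zero.2 h3)
  have hs : H.σ x = x ^ 2 + x ^ 5 := by
    rw [eq_inv_of_mul_eq_one_right hn]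
    exact inv_eq_of_mul_eq_one_right (by linear_combination hx - h22)
  refine exists_two_eight H hd (by omega) (x := x) (by linear_combination hx) h22 hs fun S hS => ?_
  by_contra hS'
  obtain ⟨d, hd2, hc, hr⟩ := card_proper S hS'
  rw [H.card_field, h8] at hc
  have hle : Nat.card S ≤ 8 :=
    (Nat.pow_le_pow_iff_left (n := 2) (by norm_num)).1 (hc ▸ Nat.pow_le_pow_right (by omega) hd2)
  obtain ⟨eps, heps⟩ : ∃ eps : F, eps = 1 + x + x ^ 2 + x ^ 3 := ⟨_, rfl⟩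
  rw [← heps] at hS
  have e3 : eps ^ 3 = (x + x ^ 2 + x ^ 5 : F) := by
    rw [heps]
    linear_combination (9 + 6 * x + 3 * x ^ 2 + x ^ 3 : F) * hx + ((-4) + (-2) * x + x ^ 2 + 3 * x ^ 4 + 4 * x ^ 5 : F) * h22
  have n3 : eps ^ 3 ≠ 1 := fun h => by
    refine left_ne_zero_of_mul_eq_one (a := (1 + x + x ^ 2 + x ^ 5 : F)) (b := x ^ 4 + x ^ 5) ?_ ?_
    · linear_combination (1 + x ^ 3 + x ^ 4 : F) * hx + ((-1) + (-1) * x ^ 3 + x ^ 5 : F) * h22
    · linear_combination h - e3 + h22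
  have e7 : eps ^ 7 = (1 + x ^ 3 : F) := by
    rw [heps]
    linear_combination ((-546) + (-615) * x + (-378) * x ^ 2 + 83 * x ^ 3 + 602 * x ^ 4 + 1007 * x ^ 5 +
      1191 * x ^ 6 + 1141 * x ^ 7 + 925 * x ^ 8 + 644 * x ^ 9 + 385 * x ^ 10 + 196 * x ^ 11 + 83 * x ^ 12 +
      28 * x ^ 13 + 7 * x ^ 14 + x ^ 15 : F) * hx + (273 + 311 * x + 203 * x ^ 2 + 273 * x ^ 3 + 108 * x ^ 4 +
      (-108) * x ^ 5 : F) * h22
  have n7 : eps ^ 7 ≠ 1 := fun h => by
    refine left_ne_zero_of_mul_eq_one (a := (x ^ 3 : F)) (b := 1 + x ^ 3) ?_ ?_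
    · linear_combination hx - h22
    · linear_combination h - e7
  have he0 : eps ≠ 0 := fun h => by
    rw [h] at e7
    refine left_ne_zero_of_mul_eq_one (a := (1 + x ^ 3 : F)) (b := x ^ 3) ?_ ?_
    · linear_combination hx - h22
    · linear_combination -e7
  have hp := pow_card_sub_one hS he0
  have hdle : d ≤ 6 := by
    by_contra hcon
    have h1 := Nat.pow_le_pow_right (show 1 ≤ 2 by norm_num) (show 7 ≤ d by omega)
    have h2 := Nat.pow_le_pow_left hr d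
    omega
  generalize Nat.card S = r at hc hle hr hp
  interval_cases r <;> interval_cases d <;> first
    | omega
    | exact n3 hp
    | exact n7 hp
    | exact n3 (by linear_combination (eps ^ 2 + eps + 1) * hp)

end Cfsg.Lib.SUThreeUnip
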